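import Groth.Agent.LogConn.K892.Flat

/-!
# Independence of the layers of the coordinates
-/

set_option autoImplicit false
universe v u
open TensorProduct LogConn

namespace K892.Change

open K892.Piece K892.Ext K892.Setup K892.Comm K892.Flat

section

variable {A : Type v} {B L E : Type u} [CommRing A] [CommRing B] [Algebra A B]
  [AddCommGroup L] [Module B L]
  [AddCommGroup E] [Module B E] [Module A E] [IsScalarTower A B E]
  {nabla : E →ₗ[A] E ⊗[B] L} {n : ℕ} {ω ω' : Module.Basis (Fin n) B L} {t t' : Fin n → B} {lam : B}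
  {dd dd' : Fin n → Derivation A B B}

theorem comp_eq (i : Fin n) (x : E) :
    comp nabla ω' i x = ∑ j, ω'.coord i (ω j) • comp nabla ω j x := by
  change K892.Along.ev E (ω'.coord i) (nabla x) = _
  rw [nabla_eq_sum nabla ω x, map_sum]
  refine Finset.sum_congr rfl (fun j _ => ?_)
  rw [K892.Along.ev_tmul]

theorem piece_le_piece (h : Rule nabla ω t lam dd)
    (hcm : ∀ i j e, comp nabla ω i (comp nabla ω j e) = comp nabla ω j (comp nabla ω i e))
    (h' : Rule nabla ω' t' lam dd')
    (hco : ∀ i j, ∃ c, ω'.coord i (ω j) = (if i = j then 1 else 0) + t i * c)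
    (ht : ∀ i, ∃ c, t' i = c * t i) (I : Finset (Fin n)) :
    piece nabla ω' t' I ≤ piece nabla ω t I := by
  classical
  induction I using Finset.induction_on_min with
  | empty =>
    intro x _
    exact mem_piece_empty t x
  | insert i I hi ih =>
    have hi' : i ∉ I := fun h => lt_irrefl _ (hi i h)
    apply piece_insert_le hi
    · intro x hx
      obtain ⟨c, hc⟩ := ht i
      rw [hc, mul_smul]
      exact smul_mem h _ c (smul_mem_insert hi' (ih hx))
    · intro J hJ e
      have e1 : (∏ j ∈ I \ J, t' j) • comp nabla ω' i (compProd nabla ω' J e) =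
          comp nabla ω' i ((∏ j ∈ I \ J, t' j) • compProd nabla ω' J e) := by
        rw [h'.leib, h'.prod_eq_zero i _ (fun h => hi' (Finset.mem_sdiff.1 h).1), mul_zero, mul_zero,
          zero_smul, add_zero]
      rw [e1]
      have hy := ih (gen_mem (nabla := nabla) (ω := ω') t' hJ e)
      generalize (∏ j ∈ I \ J, t' j) • compProd nabla ω' J e = y at hy
      rw [comp_eq (ω := ω) i y]
      choose c hc using hco i
      have e2 : ∑ j, ω'.coord i (ω j) • comp nabla ω j y =
          comp nabla ω i y + ∑ j, t i • c j • comp nabla ω j y := by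
        have : ∀ j, ω'.coord i (ω j) • comp nabla ω j y =
            (if i = j then comp nabla ω j y else 0) + t i • c j • comp nabla ω j y := by
          intro j
          rw [hc j, add_smul, mul_smul, ite_smul, one_smul, zero_smul]
        simp only [this]
        rw [Finset.sum_add_distrib, Finset.sum_ite_eq, if_pos (Finset.mem_univ i)]
      rw [e2]
      refine Submodule.add_mem _ (comp_mem_insert' h hcm hi' hy) (Submodule.sum_mem _ (fun j _ => ?_))
      exact smul_mem_insert hi' (smul_mem h _ _ (comp_mem h hcm j hy))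

theorem layer_le_layer (h : Rule nabla ω t lam dd)
    (hcm : ∀ i j e, comp nabla ω i (comp nabla ω j e) = comp nabla ω j (comp nabla ω i e))
    (h' : Rule nabla ω' t' lam dd')
    (hco : ∀ i j, ∃ c, ω'.coord i (ω j) = (if i = j then 1 else 0) + t i * c)
    (hco' : ∀ i j, ∃ c, ω.coord i (ω' j) = (if i = j then 1 else 0) + t i * c)
    (ht : ∀ i, ∃ c, t' i = c * t i) (p : ℕ) :
    layer nabla ω' t' p ≤ layer nabla ω t p := by
  apply layer_le
  intro K J hJ e
  have hy := piece_le_piece h hcm h' hco ht _ (gen_mem (nabla := nabla) (ω := ω') t' hJ e)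
  generalize (∏ j ∈ (K : Finset (Fin n)) \ J, t' j) • compProd nabla ω' J e = y at hy
  rw [exteriorPower.basis_apply]
  change y ⊗ₜ[B] exteriorPower.ιMulti B p (fun k => ω' (en K k)) ∈ layer nabla ω t p
  rw [mem_layer]
  intro K₂
  rw [coordE_ιMulti]
  obtain ⟨c, hc⟩ := prod_dvd_det ω t K₂ (K : Finset (Fin n)) (fun k => ω' (en K k)) (by
    intro j hj k
    obtain ⟨c, hc⟩ := hco' j (en K k)
    have hne : j ≠ en K k := by
      intro h
      rw [h] at hj
      exact hj (en_mem K k)
    rw [hc, if_neg hne, zero_add]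
    exact dvd_mul_right _ _)
  rw [hc, mul_comm, mul_smul]
  exact smul_mem h _ c (prod_smul_mem h hcm hy)

end

section

variable {A : Type v} {B L E : Type u} [CommRing A] [CommRing B]
    [Algebra A B] [AddCommGroup L] [Module B L] [Module A L] [IsScalarTower A B L]
    [AddCommGroup E] [Module B E] [Module A E] [IsScalarTower A B E]

theorem layer_eq (lam : B) {n : ℕ} (t : Fin n → B) (bΩ : Module.Basis (Fin n) B (KaehlerDifferential A B))
    (hbΩ : ∀ i, bΩ i = KaehlerDifferential.D A B (t i))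
    (ω : Module.Basis (Fin n) B L) (ι : KaehlerDifferential A B →ₗ[B] L)
    (hι : ∀ i, ι (KaehlerDifferential.D A B (t i)) = t i • ω i)
    (nabla : E →ₗ[A] E ⊗[B] L)
    (hc : Conn.IsLamConn (ι.compDer (KaehlerDifferential.D A B)) lam nabla)
    (d : ∀ p : ℕ, ↥(⋀[B]^p L) →ₗ[A] ↥(⋀[B]^(p + 1) L))
    (hd : LogDiff.IsLogRule (KaehlerDifferential.D A B) ι (⇑ω) d)
    (nablas : ∀ p : ℕ, E ⊗[B] ↥(⋀[B]^p L) →ₗ[A] E ⊗[B] ↥(⋀[B]^(p + 1) L))
    (hint : Conn.IsIntegrable nabla (fun p => lam • d p) nablas)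
    (u : Fin n → Bˣ) (bΩ' : Module.Basis (Fin n) B (KaehlerDifferential A B))
    (hbΩ' : ∀ i, bΩ' i = KaehlerDifferential.D A B ((u i : B) * t i))
    (ω' : Module.Basis (Fin n) B L)
    (hω' : ∀ i, ω' i = ω i + ((u i)⁻¹ : Bˣ).val • ι (KaehlerDifferential.D A B (u i : B)))
    (p : ℕ) :
    LogConn.layer nabla ω t p = LogConn.layer nabla ω' (fun i => (u i : B) * t i) p := by
  have hι' : ∀ i, ι (KaehlerDifferential.D A B ((u i : B) * t i)) = ((u i : B) * t i) • ω' i := by
    intro i
    rw [hω', Derivation.leibniz, map_add, map_smul, map_smul, hι, smul_add, smul_smul, smul_smul]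
    congr 2
    rw [mul_comm (u i : B), mul_assoc, Units.mul_inv, mul_one]
  have hr := rule bΩ hbΩ ω ι hι nabla hc
  have hr' := rule bΩ' hbΩ' ω' ι hι' nabla hc
  have hcm := comm_of_isIntegrable (ω := ω) hint
    (fun i => d_ιMulti_eq_zero hd _ (fun _ => Or.inr ⟨i, rfl⟩))
  have hd' : ∀ i, d 1 (exteriorPower.ιMulti B 1 (fun _ => ω' i)) = 0 := by
    intro i
    have e1 : ∀ x : L, exteriorPower.ιMulti B 1 (fun _ => x) = (exteriorPower.oneEquiv B L).symm x := by
      intro x
      rw [LinearEquiv.eq_symm_apply, exteriorPower.oneEquiv_ιMulti]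
    rw [e1, hω', map_add, map_smul, ← e1, ← e1, map_add,
      d_ιMulti_eq_zero hd _ (fun _ => Or.inr ⟨i, rfl⟩), zero_add, hd 1 _ _ (fun _ => Or.inl ⟨_, rfl⟩)]
    have e2 : KaehlerDifferential.D A B (((u i)⁻¹ : Bˣ).val) =
        -(((u i)⁻¹ : Bˣ).val * ((u i)⁻¹ : Bˣ).val) • KaehlerDifferential.D A B (u i : B) := by
      have h1 : KaehlerDifferential.D A B ((u i : B) * ((u i)⁻¹ : Bˣ).val) = 0 := by
        rw [Units.mul_inv, Derivation.map_one_eq_zero]
      rw [Derivation.leibniz] at h1
      have h2 := congrArg (fun x => ((u i)⁻¹ : Bˣ).val • x) h1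
      simp only [smul_add, smul_smul, Units.inv_mul, one_smul, smul_zero] at h2
      rw [neg_smul]
      exact eq_neg_of_add_eq_zero_left h2
    rw [e2, map_smul]
    have e3 : (Fin.cons (-(((u i)⁻¹ : Bˣ).val * ((u i)⁻¹ : Bˣ).val) • ι (KaehlerDifferential.D A B (u i : B)))
        (fun _ => ι (KaehlerDifferential.D A B (u i : B))) : Fin 2 → L) =
        Function.update (fun _ => ι (KaehlerDifferential.D A B (u i : B))) 0
          (-(((u i)⁻¹ : Bˣ).val * ((u i)⁻¹ : Bˣ).val) • ι (KaehlerDifferential.D A B (u i : B))) := by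
      funext k
      refine Fin.cases ?_ (fun k => ?_) k
      · simp
      · rw [Fin.cons_succ, Function.update_of_ne (Fin.succ_ne_zero k)]
    change exteriorPower.ιMulti B 2 (Fin.cons (-(((u i)⁻¹ : Bˣ).val * ((u i)⁻¹ : Bˣ).val) • ι (KaehlerDifferential.D A B (u i : B)))
        (fun _ => ι (KaehlerDifferential.D A B (u i : B))) : Fin 2 → L) = 0
    rw [e3, AlternatingMap.map_update_smul, Function.update_eq_self,
      AlternatingMap.map_eq_zero_of_eq _ _ (i := 0) (j := 1) rfl (by decide), smul_zero]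
  have hcm' := comm_of_isIntegrable (ω := ω') hint hd'
  -- coordinates of one basis in the other
  have hco' : ∀ i j, ∃ c, ω.coord i (ω' j) = (if i = j then 1 else 0) + t i * c := by
    intro i j
    refine ⟨((u j)⁻¹ : Bˣ).val * bΩ.coord i (KaehlerDifferential.D A B (u j : B)), ?_⟩
    rw [hω', map_add, map_smul, coord_iota bΩ hbΩ ω ι hι, Module.Basis.coord_apply, Module.Basis.repr_self,
      Finsupp.single_apply, smul_eq_mul]
    simp only [eq_comm]
    ring
  have hco : ∀ i j, ∃ c, ω'.coord i (ω j) = (if i = j then 1 else 0) + ((u i : B) * t i) * c := by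
    intro i j
    refine ⟨-(((u j)⁻¹ : Bˣ).val * bΩ'.coord i (KaehlerDifferential.D A B (u j : B))), ?_⟩
    have e1 : ω j = ω' j - ((u j)⁻¹ : Bˣ).val • ι (KaehlerDifferential.D A B (u j : B)) := by
      rw [hω', add_sub_cancel_right]
    rw [e1, map_sub, map_smul, coord_iota bΩ' hbΩ' ω' ι hι', Module.Basis.coord_apply,
      Module.Basis.repr_self, Finsupp.single_apply, smul_eq_mul]
    simp only [eq_comm]
    ring
  apply le_antisymm
  · refine layer_le_layer hr' hcm' hr ?_ hco (fun i => ⟨((u i)⁻¹ : Bˣ).val, ?_⟩) p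
    · intro i j
      obtain ⟨c, hc⟩ := hco' i j
      refine ⟨((u i)⁻¹ : Bˣ).val * c, ?_⟩
      rw [hc]
      congr 1
      rw [mul_comm (u i : B), mul_assoc, ← mul_assoc (u i : B), Units.mul_inv, one_mul]
    · rw [← mul_assoc, Units.inv_mul, one_mul]
  · refine layer_le_layer hr hcm hr' ?_ hco' (fun i => ⟨(u i : B), rfl⟩) p
    intro i j
    obtain ⟨c, hc⟩ := hco i j
    refine ⟨(u i : B) * c, ?_⟩
    rw [hc]
    ring

end

end K892.Change
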