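import Groth.Agent.LogConn.K892.Ext

/-!
# Pieces of a λ-connection whose components commute
-/

set_option autoImplicit false
universe v u
open TensorProduct LogConn

namespace K892.Comm

open K892.Piece K892.Ext

variable {A : Type v} {B L E : Type u} [CommRing A] [CommRing B] [Algebra A B]
  [AddCommGroup L] [Module B L]
  [AddCommGroup E] [Module B E] [Module A E] [IsScalarTower A B E]
  {nabla : E →ₗ[A] E ⊗[B] L} {n : ℕ} {ω : Module.Basis (Fin n) B L} {t : Fin n → B} {lam : B}
  {dd : Fin n → Derivation A B B}

theorem comp_compProd (hcm : ∀ i j e, comp nabla ω i (comp nabla ω j e) = comp nabla ω j (comp nabla ω i e))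
    (i : Fin n) (J : Finset (Fin n)) (e : E) :
    comp nabla ω i (compProd nabla ω J e) = compProd nabla ω J (comp nabla ω i e) := by
  classical
  induction J using Finset.induction_on_min generalizing e with
  | empty => rw [compProd_empty]; rfl
  | insert a J ha ih =>
    rw [compProd_insert a J ha, LinearMap.comp_apply, LinearMap.comp_apply, hcm, ih]

theorem compProd_insert' (hcm : ∀ i j e, comp nabla ω i (comp nabla ω j e) = comp nabla ω j (comp nabla ω i e))
    (i : Fin n) (J : Finset (Fin n)) (hi : i ∉ J) (e : E) :
    compProd nabla ω (insert i J) e = comp nabla ω i (compProd nabla ω J e) := by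
  classical
  induction J using Finset.induction_on_min generalizing e with
  | empty => rw [compProd_insert i ∅ (by simp)]; rfl
  | insert a J ha ih =>
    have hia : i ≠ a := fun h => hi (h ▸ Finset.mem_insert_self _ _)
    have hiJ : i ∉ J := fun h => hi (Finset.mem_insert_of_mem h)
    rcases lt_or_gt_of_ne hia with h | h
    · rw [compProd_insert i (insert a J) (by
        intro x hx
        rcases Finset.mem_insert.1 hx with rfl | hx
        · exact h
        · exact h.trans (ha x hx))]
      rfl
    · rw [Finset.insert_comm, compProd_insert a (insert i J) (by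
        intro x hx
        rcases Finset.mem_insert.1 hx with rfl | hx
        · exact h
        · exact ha x hx), LinearMap.comp_apply, ih hiJ, compProd_insert a J ha, LinearMap.comp_apply, hcm]

/-- `∇ᵢ E_I ⊆ E_{i ∪ I}` for `i ∉ I`. -/
theorem comp_mem_insert' (h : Rule nabla ω t lam dd)
    (hcm : ∀ i j e, comp nabla ω i (comp nabla ω j e) = comp nabla ω j (comp nabla ω i e))
    {I : Finset (Fin n)} {i : Fin n} (hi' : i ∉ I)
    {x : E} (hx : x ∈ piece nabla ω t I) : comp nabla ω i x ∈ piece nabla ω t (insert i I) := by
  have h : piece nabla ω t I ≤ (piece nabla ω t (insert i I)).comap (comp nabla ω i) := by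
    apply piece_le
    intro J hJ e
    change comp nabla ω i ((∏ j ∈ I \ J, t j) • compProd nabla ω J e) ∈ piece nabla ω t (insert i I)
    have h2 : i ∉ I \ J := fun h => hi' (Finset.mem_sdiff.1 h).1
    rw [h.leib, h.prod_eq_zero i _ h2, mul_zero, mul_zero, zero_smul, add_zero]
    have h3 : insert i I \ insert i J = I \ J := by
      rw [Finset.insert_sdiff_insert, Finset.sdiff_insert_of_notMem hi']
    rw [← h3, ← compProd_insert' hcm i J (fun h => hi' (hJ h))]
    exact gen_mem t (Finset.insert_subset_insert _ hJ) e
  exact h hx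

/-- `∇ⱼ E_I ⊆ E_I` for every `j`. -/
theorem comp_mem (h : Rule nabla ω t lam dd)
    (hcm : ∀ i j e, comp nabla ω i (comp nabla ω j e) = comp nabla ω j (comp nabla ω i e))
    {I : Finset (Fin n)} (j : Fin n)
    {x : E} (hx : x ∈ piece nabla ω t I) : comp nabla ω j x ∈ piece nabla ω t I := by
  have h' : piece nabla ω t I ≤ (piece nabla ω t I).comap (comp nabla ω j) := by
    apply piece_le
    intro J hJ e
    change comp nabla ω j ((∏ j ∈ I \ J, t j) • compProd nabla ω J e) ∈ piece nabla ω t I
    rw [h.leib, comp_compProd hcm]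
    refine Submodule.add_mem _ (gen_mem t hJ _) ?_
    by_cases hj : j ∈ I \ J
    · rw [h.prod_self j _ hj, mul_smul]
      exact smul_mem h I lam (gen_mem t hJ e)
    · rw [h.prod_eq_zero j _ hj, mul_zero, mul_zero, zero_smul]
      exact Submodule.zero_mem _
  exact h' hx

/-- `E_{j ∪ I} ⊆ E_I`. -/
theorem piece_insert_le' (h : Rule nabla ω t lam dd)
    (hcm : ∀ i j e, comp nabla ω i (comp nabla ω j e) = comp nabla ω j (comp nabla ω i e))
    {I : Finset (Fin n)} (j : Fin n) : piece nabla ω t (insert j I) ≤ piece nabla ω t I := by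
  classical
  by_cases hj : j ∈ I
  · rw [Finset.insert_eq_of_mem hj]
  apply piece_le
  intro J hJ e
  by_cases hjJ : j ∈ J
  · have e1 : J = insert j (J.erase j) := (Finset.insert_erase hjJ).symm
    have e2 : J.erase j ⊆ I := by
      intro x hx
      rcases Finset.mem_insert.1 (hJ (Finset.mem_of_mem_erase hx)) with h | h
      · exact absurd h (Finset.ne_of_mem_erase hx)
      · exact h
    have e3 : insert j I \ J = I \ J.erase j := by
      conv_lhs => rw [e1]
      rw [Finset.insert_sdiff_insert, Finset.sdiff_insert_of_notMem hj]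
    rw [e3]
    conv in compProd nabla ω J => rw [e1]
    rw [compProd_insert' hcm j _ (Finset.notMem_erase j J), comp_compProd hcm]
    exact gen_mem t e2 _
  · have e2 : J ⊆ I := by
      intro x hx
      rcases Finset.mem_insert.1 (hJ hx) with h | h
      · exact absurd (h ▸ hx) hjJ
      · exact h
    have e3 : insert j I \ J = insert j (I \ J) := Finset.insert_sdiff_of_notMem _ hjJ
    rw [e3, Finset.prod_insert (fun h => hj (Finset.mem_sdiff.1 h).1), mul_smul]
    exact smul_mem h I _ (gen_mem t e2 e)

theorem piece_anti (h : Rule nabla ω t lam dd)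
    (hcm : ∀ i j e, comp nabla ω i (comp nabla ω j e) = comp nabla ω j (comp nabla ω i e))
    {I I' : Finset (Fin n)} (hI : I ⊆ I') : piece nabla ω t I' ≤ piece nabla ω t I := by
  classical
  have key : ∀ S : Finset (Fin n), piece nabla ω t (S ∪ I) ≤ piece nabla ω t I := by
    intro S
    induction S using Finset.induction_on with
    | empty => rw [Finset.empty_union]
    | insert a s _ ih => rw [Finset.insert_union]; exact (piece_insert_le' h hcm a).trans ih
  have := key I'
  rwa [Finset.union_eq_left.2 hI] at this

/-- `t_{K∖I} E_I ⊆ E_K`. -/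
theorem prod_smul_mem (h : Rule nabla ω t lam dd)
    (hcm : ∀ i j e, comp nabla ω i (comp nabla ω j e) = comp nabla ω j (comp nabla ω i e))
    {I K : Finset (Fin n)} {x : E} (hx : x ∈ piece nabla ω t I) :
    (∏ j ∈ K \ I, t j) • x ∈ piece nabla ω t K := by
  classical
  have key : ∀ S : Finset (Fin n), Disjoint S I → (∏ j ∈ S, t j) • x ∈ piece nabla ω t (S ∪ I) := by
    intro S
    induction S using Finset.induction_on with
    | empty => intro _; simpa using hx
    | insert a s ha ih =>
      intro hd
      rw [Finset.disjoint_insert_left] at hd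
      rw [Finset.prod_insert ha, mul_smul, Finset.insert_union]
      exact smul_mem_insert (by
        rw [Finset.mem_union]
        rintro (h | h)
        · exact ha h
        · exact hd.1 h) (ih hd.2)
  have h1 := key (K \ I) Finset.sdiff_disjoint
  rw [Finset.sdiff_union_self_eq_union] at h1
  exact piece_anti h hcm Finset.subset_union_left h1

section Forms

theorem nabla_eq_sum (nabla : E →ₗ[A] E ⊗[B] L) (ω : Module.Basis (Fin n) B L) (e : E) :
    nabla e = ∑ i, comp nabla ω i e ⊗ₜ[B] ω i := by
  apply K892.Along.ext_basis ω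
  intro i
  rw [map_sum, Finset.sum_eq_single i]
  · rw [K892.Along.ev_tmul, Module.Basis.coord_apply, Module.Basis.repr_self, Finsupp.single_eq_same,
      one_smul]
    rfl
  · intro j _ hj
    rw [K892.Along.ev_tmul, Module.Basis.coord_apply, Module.Basis.repr_self,
      Finsupp.single_eq_of_ne hj.symm, zero_smul]
  · intro h
    exact absurd (Finset.mem_univ i) h

theorem twedge_ιMulti {p : ℕ} (m : E) (x : L) (w : Fin p → L) :
    Conn.twedge p (Conn.toOne (m ⊗ₜ[B] x)) (exteriorPower.ιMulti B p w) =
      m ⊗ₜ[B] exteriorPower.ιMulti B (p + 1) (Fin.cons x w : Fin (p + 1) → L) := by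
  rw [Conn.toOne_tmul, Conn.twedge_tmul]
  congr 1
  apply Subtype.ext
  have h1 : (exteriorPower.oneEquiv B L).symm x = exteriorPower.ιMulti B 1 (fun _ => x) := by
    rw [LinearEquiv.symm_apply_eq, exteriorPower.oneEquiv_ιMulti]
  rw [h1, Conn.wedge_apply_coe, exteriorPower.ιMulti_apply_coe, exteriorPower.ιMulti_apply_coe,
    exteriorPower.ιMulti_apply_coe, ExteriorAlgebra.ιMulti_succ_apply,
    ExteriorAlgebra.ιMulti_succ_apply, ExteriorAlgebra.ιMulti_zero_apply, mul_one, Fin.cons_zero]
  rfl

end Forms

end K892.Comm
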