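import Groth.Agent.LogConn.K892.Setup
import Mathlib.LinearAlgebra.ExteriorPower.Basis
import Mathlib.Data.Fintype.Powerset

/-!
# Coordinates of decomposable forms and the layers `⊕ E_K ⊗ ω_K`
-/

set_option autoImplicit false
universe v u
open TensorProduct LogConn

namespace K892.Ext

open K892.Piece

section Forms

variable {B L E : Type u} [CommRing B] [AddCommGroup L] [Module B L] [AddCommGroup E] [Module B E]
  {n p : ℕ} (ω : Module.Basis (Fin n) B L) (t : Fin n → B)

/-- The increasing enumeration of `K`. -/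
noncomputable abbrev en (K : Set.powersetCard (Fin n) p) : Fin p ↪o Fin n :=
  Set.powersetCard.ofFinEmbEquiv.symm K

theorem en_mem (K : Set.powersetCard (Fin n) p) (i : Fin p) : en K i ∈ (K : Finset (Fin n)) :=
  Finset.orderEmbOfFin_mem _ _ _

theorem exists_en (K : Set.powersetCard (Fin n) p) {j : Fin n} (hj : j ∈ (K : Finset (Fin n))) :
    ∃ i, en K i = j :=
  (Set.powersetCard.mem_range_ofFinEmbEquiv_symm_iff_mem K j).2 hj

theorem prod_en {N : Type*} [CommMonoid N] (K : Set.powersetCard (Fin n) p) (f : Fin n → N) :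
    ∏ i, f (en K i) = ∏ j ∈ (K : Finset (Fin n)), f j := by
  rw [← Finset.map_orderEmbOfFin_univ (K : Finset (Fin n)) K.2, Finset.prod_map]
  rfl

theorem coordE_tmul (K : Set.powersetCard (Fin n) p) (x : E) (η : ↥(⋀[B]^p L)) :
    coordE ω p K (x ⊗ₜ η) = (ω.exteriorPower p).coord K η • x := by
  simp [coordE]

theorem coordE_ιMulti (K : Set.powersetCard (Fin n) p) (x : E) (v : Fin p → L) :
    coordE ω p K (x ⊗ₜ exteriorPower.ιMulti B p v) =
      (Matrix.of fun i j => ω.coord (en K j) (v i)).det • x := by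
  rw [coordE_tmul, exteriorPower.basis_coord, exteriorPower.ιMultiDual_apply_ιMulti]

theorem coordE_basis (K K' : Set.powersetCard (Fin n) p) (x : E) :
    coordE ω p K (x ⊗ₜ ω.exteriorPower p K') = if K = K' then x else 0 := by
  classical
  rw [coordE_tmul, Module.Basis.coord_apply, Module.Basis.repr_self, Finsupp.single_apply]
  split_ifs with h1 h2 h2
  · rw [one_smul]
  · exact absurd h1.symm h2
  · exact absurd h2.symm h1
  · rw [zero_smul]

/-- Expansion of an element of `E ⊗ ⋀^p L` in the basis `ω_K`. -/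
theorem expand (x : E ⊗[B] ↥(⋀[B]^p L)) :
    x = ∑ K : Set.powersetCard (Fin n) p, coordE ω p K x ⊗ₜ[B] ω.exteriorPower p K := by
  induction x using TensorProduct.induction_on with
  | zero => simp
  | add x y hx hy =>
    conv_lhs => rw [hx, hy]
    rw [← Finset.sum_add_distrib]
    refine Finset.sum_congr rfl (fun K _ => ?_)
    rw [map_add, add_tmul]
  | tmul e η =>
    conv_lhs => rw [← (ω.exteriorPower p).sum_repr η, tmul_sum]
    refine Finset.sum_congr rfl (fun K _ => ?_)
    rw [coordE_tmul, tmul_smul, smul_tmul', Module.Basis.coord_apply]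

omit ω in
theorem prod_ite_eq (t : Fin n → B) (K I : Finset (Fin n)) :
    ∏ j ∈ K, (if j ∈ I then 1 else t j) = ∏ j ∈ K \ I, t j := by
  classical
  rw [Finset.sdiff_eq_filter, Finset.prod_filter]
  refine Finset.prod_congr rfl (fun j _ => ?_)
  by_cases h : j ∈ I
  · simp [h]
  · simp [h]

/-- The coordinates of a decomposable form whose `j`-coordinates are divisible by `tⱼ` for `j ∉ I`. -/
theorem prod_dvd_det (K : Set.powersetCard (Fin n) p) (I : Finset (Fin n)) (v : Fin p → L)
    (H : ∀ j, j ∉ I → ∀ k, t j ∣ ω.coord j (v k)) :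
    ∏ j ∈ (K : Finset (Fin n)) \ I, t j ∣ (Matrix.of fun i j => ω.coord (en K j) (v i)).det := by
  rw [Matrix.det_apply', ← prod_ite_eq t (K : Finset (Fin n)) I,
    ← prod_en K (fun j => if j ∈ I then 1 else t j)]
  refine Finset.dvd_sum (fun σ _ => Dvd.dvd.mul_left ?_ _)
  refine Finset.prod_dvd_prod_of_dvd _ _ (fun i _ => ?_)
  rw [Matrix.of_apply]
  split_ifs with h
  · exact one_dvd _
  · exact H _ h _

/-- Up to sign, `t_{K∖J} ω_K` is the wedge of the `ω_j`, `j ∈ J`, and of the `t_j ω_j`, `j ∈ K ∖ J`. -/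
theorem exists_mono (K : Set.powersetCard (Fin n) p) {J : Finset (Fin n)} (hJ : J ⊆ (K : Finset (Fin n)))
    (w : Fin n → L) (hw : ∀ j, w j = t j • ω j) :
    ∃ (v : Fin p → L) (ε : ℤˣ), J.card ≤ p ∧
      (∀ (k : Fin p) (hk : k.val < J.card), v k = ω (J.orderEmbOfFin rfl ⟨k.val, hk⟩)) ∧
      (∀ k : Fin p, J.card ≤ k.val → ∃ j, v k = w j) ∧
      exteriorPower.ιMulti B p v = ε • ((∏ j ∈ (K : Finset (Fin n)) \ J, t j) • ω.exteriorPower p K) := by
  classical
  have hKc : (K : Finset (Fin n)).card = p := K.2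
  have hle : J.card ≤ p := hKc ▸ Finset.card_le_card hJ
  have hcard : ((K : Finset (Fin n)) \ J).card = p - J.card := by
    rw [Finset.card_sdiff_of_subset hJ, hKc]
  let s : Fin p → Fin n := fun k => if hk : k.val < J.card then J.orderEmbOfFin rfl ⟨k.val, hk⟩ else
    ((K : Finset (Fin n)) \ J).orderEmbOfFin hcard ⟨k.val - J.card, by have := k.2; omega⟩
  have hs1 : ∀ (k : Fin p) (hk : k.val < J.card), s k = J.orderEmbOfFin rfl ⟨k.val, hk⟩ :=
    fun k hk => dif_pos hk
  have hs2 : ∀ (k : Fin p) (hk : ¬ k.val < J.card), s k =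
      ((K : Finset (Fin n)) \ J).orderEmbOfFin hcard ⟨k.val - J.card, by have := k.2; omega⟩ :=
    fun k hk => dif_neg hk
  have hsJ : ∀ k : Fin p, s k ∈ J ↔ k.val < J.card := by
    intro k
    by_cases hk : k.val < J.card
    · rw [hs1 k hk]
      exact ⟨fun _ => hk, fun _ => Finset.orderEmbOfFin_mem _ _ _⟩
    · rw [hs2 k hk]
      exact ⟨fun h => absurd h (Finset.mem_sdiff.1 (Finset.orderEmbOfFin_mem _ hcard _)).2,
        fun h => absurd h hk⟩
  have hsK : ∀ k : Fin p, s k ∈ (K : Finset (Fin n)) := by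
    intro k
    by_cases hk : k.val < J.card
    · rw [hs1 k hk]
      exact hJ (Finset.orderEmbOfFin_mem _ _ _)
    · rw [hs2 k hk]
      exact (Finset.mem_sdiff.1 (Finset.orderEmbOfFin_mem _ hcard _)).1
  have hinj : Function.Injective s := by
    intro a b hab
    by_cases ha : a.val < J.card
    · have hb : b.val < J.card := (hsJ b).1 (hab ▸ (hsJ a).2 ha)
      rw [hs1 a ha, hs1 b hb] at hab
      have := (J.orderEmbOfFin rfl).injective hab
      exact Fin.ext (by simpa using congrArg Fin.val this)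
    · have hb : ¬ b.val < J.card := fun hb => ha ((hsJ a).1 (hab ▸ (hsJ b).2 hb))
      rw [hs2 a ha, hs2 b hb] at hab
      have := (((K : Finset (Fin n)) \ J).orderEmbOfFin hcard).injective hab
      have h3 : a.val - J.card = b.val - J.card := by simpa using congrArg Fin.val this
      exact Fin.ext (by omega)
  choose σ hσ using fun k => exists_en K (hsK k)
  have hσinj : Function.Injective σ := by
    intro a b hab
    apply hinj
    rw [← hσ a, ← hσ b, hab]
  let τ : Equiv.Perm (Fin p) := Equiv.ofBijective σ (Finite.injective_iff_bijective.1 hσinj)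
  have hτ : ∀ k, en K (τ k) = s k := hσ
  let c : Fin p → B := fun k => if s k ∈ J then 1 else t (s k)
  refine ⟨fun k => c k • ω (s k), Equiv.Perm.sign τ, hle, ?_, ?_, ?_⟩
  · intro k hk
    change c k • ω (s k) = _
    have : c k = 1 := if_pos ((hsJ k).2 hk)
    rw [this, one_smul, hs1 k hk]
  · intro k hk
    refine ⟨s k, ?_⟩
    have : c k = t (s k) := if_neg (fun h => (not_lt.2 hk) ((hsJ k).1 h))
    change c k • ω (s k) = _
    rw [this, hw]
  · have h1 : exteriorPower.ιMulti B p (fun k => c k • ω (s k)) =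
        (∏ k, c k) • exteriorPower.ιMulti B p (fun k => ω (s k)) :=
      (exteriorPower.ιMulti B p (M := L)).toMultilinearMap.map_smul_univ c (fun k => ω (s k))
    have h2 : (fun k => ω (s k)) = (fun k => ω (en K k)) ∘ τ := by
      funext k
      change ω (s k) = ω (en K (τ k))
      rw [hτ]
    have h3 : ∏ k, c k = ∏ j ∈ (K : Finset (Fin n)) \ J, t j := by
      rw [← prod_ite_eq t, ← prod_en K (fun j => if j ∈ J then 1 else t j),
        ← Equiv.prod_comp τ (fun i => if en K i ∈ J then 1 else t (en K i))]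
      refine Finset.prod_congr rfl (fun k _ => ?_)
      rw [hτ]
    rw [h1, h2, AlternatingMap.map_perm, h3, exteriorPower.basis_apply, smul_comm]
    rfl

end Forms

section Layer

variable {A : Type v} {B L E : Type u} [CommRing A] [CommRing B] [Algebra A B]
  [AddCommGroup L] [Module B L]
  [AddCommGroup E] [Module B E] [Module A E] [IsScalarTower A B E]
  {nabla : E →ₗ[A] E ⊗[B] L} {n p : ℕ} {ω : Module.Basis (Fin n) B L} {t : Fin n → B} {lam : B}
  {dd : Fin n → Derivation A B B}

theorem mem_layer {x : E ⊗[B] ↥(⋀[B]^p L)} :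
    x ∈ layer nabla ω t p ↔ ∀ K : Set.powersetCard (Fin n) p,
      coordE ω p K x ∈ piece nabla ω t (K : Finset (Fin n)) := by
  simp only [layer, Submodule.mem_iInf, Submodule.mem_comap, LinearMap.coe_restrictScalars]

theorem smul_mem_layer (h : Rule nabla ω t lam dd) (b : B) {x : E ⊗[B] ↥(⋀[B]^p L)}
    (hx : x ∈ layer nabla ω t p) : b • x ∈ layer nabla ω t p := by
  rw [mem_layer] at hx ⊢
  intro K
  rw [map_smul]
  exact smul_mem h _ b (hx K)

theorem tmul_basis_mem_layer {K : Set.powersetCard (Fin n) p} {y : E}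
    (hy : y ∈ piece nabla ω t (K : Finset (Fin n))) : y ⊗ₜ[B] ω.exteriorPower p K ∈ layer nabla ω t p := by
  classical
  rw [mem_layer]
  intro K'
  rw [coordE_basis]
  split_ifs with h
  · rw [h]; exact hy
  · exact Submodule.zero_mem _

/-- To show that the layer is contained in an `A`-submodule it suffices to test `y ⊗ ω_K`, `y = t_{K∖J} ∇_J e`. -/
theorem layer_le {S : Submodule A (E ⊗[B] ↥(⋀[B]^p L))}
    (h : ∀ (K : Set.powersetCard (Fin n) p) (J : Finset (Fin n)), J ⊆ (K : Finset (Fin n)) → ∀ e : E,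
      ((∏ j ∈ (K : Finset (Fin n)) \ J, t j) • compProd nabla ω J e) ⊗ₜ[B] ω.exteriorPower p K ∈ S) :
    layer nabla ω t p ≤ S := by
  intro x hx
  rw [mem_layer] at hx
  rw [expand ω x]
  refine Submodule.sum_mem _ (fun K _ => ?_)
  have hle : piece nabla ω t (K : Finset (Fin n)) ≤
      S.comap (((TensorProduct.mk B E ↥(⋀[B]^p L)).flip (ω.exteriorPower p K)).restrictScalars A) := by
    apply piece_le
    intro J hJ e
    exact h K J hJ e
  exact hle (hx K)

end Layer

end K892.Ext
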