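import Groth.Agent.LogConn.K892.Comm
import Groth.Prelude.Def_LogDiff

/-!
# Flatness: the components commute, and the layers form a subcomplex
-/

set_option autoImplicit false
universe v u
open TensorProduct LogConn

namespace K892.Flat

open K892.Piece K892.Ext K892.Setup K892.Comm

section

variable {A : Type v} {B L E : Type u} [CommRing A] [CommRing B]
    [Algebra A B] [AddCommGroup L] [Module B L] [Module A L] [IsScalarTower A B L]
    [AddCommGroup E] [Module B E] [Module A E] [IsScalarTower A B E]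
    {lam : B} {n : ℕ} {t : Fin n → B} {nabla : E →ₗ[A] E ⊗[B] L} {ω : Module.Basis (Fin n) B L}
    {d : ∀ p : ℕ, ↥(⋀[B]^p L) →ₗ[A] ↥(⋀[B]^(p + 1) L)}
    {nablas : ∀ p : ℕ, E ⊗[B] ↥(⋀[B]^p L) →ₗ[A] E ⊗[B] ↥(⋀[B]^(p + 1) L)}

theorem nablas_tmul_ιMulti (hrule : Conn.IsCxRule nabla (fun p => lam • d p) nablas) {p : ℕ}
    (w : Fin p → L) (hw : d p (exteriorPower.ιMulti B p w) = 0) (x : E) :
    nablas p (x ⊗ₜ[B] exteriorPower.ιMulti B p w) =
      ∑ i, comp nabla ω i x ⊗ₜ[B] exteriorPower.ιMulti B (p + 1) (Fin.cons (ω i) w : Fin (p + 1) → L) := by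
  rw [hrule, LinearMap.smul_apply, hw, smul_zero, tmul_zero, add_zero, nabla_eq_sum nabla ω x, map_sum,
    map_sum, LinearMap.sum_apply]
  refine Finset.sum_congr rfl (fun i _ => ?_)
  rw [twedge_ιMulti]

/-- Flatness makes the components commute. -/
theorem comm_of_isIntegrable (hint : Conn.IsIntegrable nabla (fun p => lam • d p) nablas)
    (hd : ∀ i, d 1 (exteriorPower.ιMulti B 1 (fun _ => ω i)) = 0) (i j : Fin n) (e : E) :
    comp nabla ω i (comp nabla ω j e) = comp nabla ω j (comp nabla ω i e) := by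
  classical
  rcases eq_or_ne i j with rfl | hij
  · rfl
  -- reduce to `i < j`
  suffices key : ∀ a b : Fin n, a < b → comp nabla ω a (comp nabla ω b e) = comp nabla ω b (comp nabla ω a e) by
    rcases lt_or_gt_of_ne hij with h | h
    · exact key i j h
    · exact (key j i h).symm
  intro a b hab
  have h1 := hint.2 e
  have h2 : Conn.toOne (nabla e) = ∑ j, comp nabla ω j e ⊗ₜ[B] exteriorPower.ιMulti B 1 (fun _ => ω j) := by
    rw [nabla_eq_sum nabla ω e, map_sum]
    refine Finset.sum_congr rfl (fun j _ => ?_)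
    rw [Conn.toOne_tmul]
    have h0 : (exteriorPower.oneEquiv B L).symm (ω j) = exteriorPower.ιMulti B 1 (fun _ => ω j) := by
      rw [LinearEquiv.symm_apply_eq, exteriorPower.oneEquiv_ιMulti]
    rw [h0]
  rw [h2, map_sum] at h1
  simp only [nablas_tmul_ιMulti (ω := ω) hint.1 _ (hd _)] at h1
  -- take the coordinate along `{a, b}`
  let K : Set.powersetCard (Fin n) 2 := ⟨{a, b}, Finset.card_pair hab.ne⟩
  have hm0 : en K 0 = a ∨ en K 0 = b := by
    rcases Finset.mem_insert.1 (en_mem K 0) with h | h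
    · exact Or.inl h
    · exact Or.inr (Finset.mem_singleton.1 h)
  have hm1 : en K 1 = a ∨ en K 1 = b := by
    rcases Finset.mem_insert.1 (en_mem K 1) with h | h
    · exact Or.inl h
    · exact Or.inr (Finset.mem_singleton.1 h)
  have hlt : en K 0 < en K 1 := (en K).strictMono (by decide)
  have hK0 : en K 0 = a := by
    rcases hm0 with h | h
    · exact h
    · rcases hm1 with h' | h'
      · rw [h, h'] at hlt; exact absurd (hlt.trans hab) (lt_irrefl _)
      · rw [h, h'] at hlt; exact absurd hlt (lt_irrefl _)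
  have hK1 : en K 1 = b := by
    rcases hm1 with h | h
    · rw [h, hK0] at hlt; exact absurd hlt (lt_irrefl _)
    · exact h
  have h3 := congrArg (coordE ω 2 K) h1
  rw [map_zero, map_sum] at h3
  simp only [map_sum, coordE_ιMulti, Matrix.det_fin_two, Matrix.of_apply, hK0, hK1] at h3
  have h4 : ∀ (j i : Fin n), (ω.coord a ((Fin.cons (ω i) (fun _ => ω j) : Fin 2 → L) 0) *
      ω.coord b ((Fin.cons (ω i) (fun _ => ω j) : Fin 2 → L) 1) -
      ω.coord b ((Fin.cons (ω i) (fun _ => ω j) : Fin 2 → L) 0) *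
      ω.coord a ((Fin.cons (ω i) (fun _ => ω j) : Fin 2 → L) 1)) =
      (if i = a then 1 else 0) * (if j = b then 1 else 0) - (if i = b then 1 else 0) * (if j = a then 1 else 0) := by
    intro j i
    have e0 : ((Fin.cons (ω i) (fun _ => ω j) : Fin 2 → L) 0) = ω i := rfl
    have e1 : ((Fin.cons (ω i) (fun _ => ω j) : Fin 2 → L) 1) = ω j := rfl
    rw [e0, e1]
    simp only [Module.Basis.coord_apply, Module.Basis.repr_self, Finsupp.single_apply]
  simp only [h4, sub_smul, Finset.sum_sub_distrib] at h3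
  have h5 : ∀ (c c' : Fin n), ∑ j, ∑ i, ((if i = c then (1 : B) else 0) * (if j = c' then 1 else 0)) •
      comp nabla ω i (comp nabla ω j e) = comp nabla ω c (comp nabla ω c' e) := by
    intro c c'
    rw [Finset.sum_eq_single c', Finset.sum_eq_single c]
    · simp
    · intro i _ hi
      simp [hi]
    · intro h
      exact absurd (Finset.mem_univ c) h
    · intro j _ hj
      refine Finset.sum_eq_zero (fun i _ => ?_)
      simp [hj]
    · intro h
      exact absurd (Finset.mem_univ c') h
  rw [h5, h5, sub_eq_zero] at h3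
  exact h3

end

section

variable {A : Type v} {B L E : Type u} [CommRing A] [CommRing B]
    [Algebra A B] [AddCommGroup L] [Module B L]
    [AddCommGroup E] [Module B E] [Module A E] [IsScalarTower A B E]
    {lam : B} {n : ℕ} {t : Fin n → B} {nabla : E →ₗ[A] E ⊗[B] L} {ω : Module.Basis (Fin n) B L}
    {dd : Fin n → Derivation A B B}

/-- `∇ᵢ y ⊗ ω_i ∧ ω_K` lies in the layer when `y ∈ E_K`. -/
theorem wedge_mem_layer (h : Rule nabla ω t lam dd)
    (hcm : ∀ i j e, comp nabla ω i (comp nabla ω j e) = comp nabla ω j (comp nabla ω i e))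
    {p : ℕ} (K : Set.powersetCard (Fin n) p) (i : Fin n) {y : E}
    (hy : y ∈ piece nabla ω t (K : Finset (Fin n))) :
    comp nabla ω i y ⊗ₜ[B] exteriorPower.ιMulti B (p + 1)
      (Fin.cons (ω i) (fun k => ω (en K k)) : Fin (p + 1) → L) ∈ layer nabla ω t (p + 1) := by
  classical
  rw [mem_layer]
  intro K'
  rw [coordE_ιMulti]
  by_cases hi : i ∈ (K : Finset (Fin n))
  · -- two equal factors
    obtain ⟨k, hk⟩ := exists_en K hi
    rw [Matrix.det_zero_of_row_eq (i := 0) (j := k.succ) (Fin.succ_ne_zero k).symm, zero_smul]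
    · exact Submodule.zero_mem _
    · funext j
      rw [Matrix.of_apply, Matrix.of_apply, Fin.cons_zero, Fin.cons_succ, hk]
  · by_cases hsub : insert i (K : Finset (Fin n)) ⊆ (K' : Finset (Fin n))
    · have hKc : (K : Finset (Fin n)).card = p := K.2
      have hK'c : (K' : Finset (Fin n)).card = p + 1 := K'.2
      have heq : insert i (K : Finset (Fin n)) = (K' : Finset (Fin n)) := by
        apply Finset.eq_of_subset_of_card_le hsub
        rw [Finset.card_insert_of_notMem hi, hKc, hK'c]
      apply smul_mem h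
      rw [← heq]
      exact comp_mem_insert' h hcm hi hy
    · obtain ⟨j, hj, hjK'⟩ := Finset.not_subset.1 hsub
      obtain ⟨r, hr⟩ : ∃ r : Fin (p + 1), (Fin.cons (ω i) (fun k => ω (en K k)) : Fin (p + 1) → L) r = ω j := by
        rcases Finset.mem_insert.1 hj with rfl | hj
        · exact ⟨0, rfl⟩
        · obtain ⟨k, hk⟩ := exists_en K hj
          exact ⟨k.succ, by rw [Fin.cons_succ, hk]⟩
      rw [Matrix.det_eq_zero_of_row_eq_zero r, zero_smul]
      · exact Submodule.zero_mem _
      · intro c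
        rw [Matrix.of_apply, hr, Module.Basis.coord_apply, Module.Basis.repr_self,
          Finsupp.single_eq_of_ne]
        rintro h
        exact hjK' (h ▸ en_mem K' c)

end

section

variable {A : Type v} {B L E : Type u} [CommRing A] [CommRing B]
    [Algebra A B] [AddCommGroup L] [Module B L] [Module A L] [IsScalarTower A B L]
    [AddCommGroup E] [Module B E] [Module A E] [IsScalarTower A B E]
    {lam : B} {n : ℕ} {t : Fin n → B} {nabla : E →ₗ[A] E ⊗[B] L} {ω : Module.Basis (Fin n) B L}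
    {d : ∀ p : ℕ, ↥(⋀[B]^p L) →ₗ[A] ↥(⋀[B]^(p + 1) L)}
    {nablas : ∀ p : ℕ, E ⊗[B] ↥(⋀[B]^p L) →ₗ[A] E ⊗[B] ↥(⋀[B]^(p + 1) L)}

/-- The log differential kills wedges of the generating forms. -/
theorem d_ιMulti_eq_zero {Ω : Type u} [AddCommGroup Ω] [Module B Ω] [Module A Ω] [IsScalarTower A B Ω]
    {δ : Derivation A B Ω} {ι : Ω →ₗ[B] L} {dl : Fin n → L}
    (hd : LogDiff.IsLogRule δ ι dl d) {p : ℕ} (e : Fin p → L)
    (he : ∀ k, (∃ b, e k = ι (δ b)) ∨ ∃ i, e k = dl i) :
    d p (exteriorPower.ιMulti B p e) = 0 := by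
  have h := hd p 1 e he
  rw [one_smul, Derivation.map_one_eq_zero, map_zero] at h
  rw [h]
  exact AlternatingMap.map_coord_zero _ (0 : Fin (p + 1)) rfl

theorem nablas_mem_layer {dd : Fin n → Derivation A B B} (h : Rule nabla ω t lam dd)
    {ι : KaehlerDifferential A B →ₗ[B] L}
    (hd : LogDiff.IsLogRule (KaehlerDifferential.D A B) ι (⇑ω) d)
    (hint : Conn.IsIntegrable nabla (fun p => lam • d p) nablas)
    (p : ℕ) (x : E ⊗[B] ↥(⋀[B]^p L)) (hx : x ∈ LogConn.layer nabla ω t p) :
    nablas p x ∈ LogConn.layer nabla ω t (p + 1) := by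
  have hcm := comm_of_isIntegrable (ω := ω) hint
    (fun i => d_ιMulti_eq_zero hd _ (fun _ => Or.inr ⟨i, rfl⟩))
  have hle : layer nabla ω t p ≤ (layer nabla ω t (p + 1)).comap (nablas p) := by
    apply layer_le
    intro K J hJ e
    change nablas p (((∏ j ∈ (K : Finset (Fin n)) \ J, t j) • compProd nabla ω J e) ⊗ₜ[B]
      ω.exteriorPower p K) ∈ layer nabla ω t (p + 1)
    have hy := gen_mem (nabla := nabla) (ω := ω) t hJ e
    generalize (∏ j ∈ (K : Finset (Fin n)) \ J, t j) • compProd nabla ω J e = y at hy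
    rw [exteriorPower.basis_apply]
    change nablas p (y ⊗ₜ[B] exteriorPower.ιMulti B p (fun k => ω (en K k))) ∈ layer nabla ω t (p + 1)
    rw [nablas_tmul_ιMulti (ω := ω) hint.1 _ (d_ιMulti_eq_zero hd _ (fun k => Or.inr ⟨_, rfl⟩))]
    exact Submodule.sum_mem _ (fun i _ => wedge_mem_layer h hcm K i hy)
  exact hle hx

end

end K892.Flat
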