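import Groth.Agent.LogConn.K892.Ext

/-!
# The layer is the `B`-span of the generators `∇_I(e) ⊗ ω_I ∧ ι η`
-/

set_option autoImplicit false
universe v u
open TensorProduct LogConn

namespace K892.Gens

open K892.Piece K892.Ext K892.Setup

variable {A : Type v} {B L E : Type u} [CommRing A] [CommRing B]
    [Algebra A B] [AddCommGroup L] [Module B L] [Module A L] [IsScalarTower A B L]
    [AddCommGroup E] [Module B E] [Module A E] [IsScalarTower A B E]
    {lam : B} {n : ℕ} {t : Fin n → B}

theorem gens_subset_layer (bΩ : Module.Basis (Fin n) B (KaehlerDifferential A B))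
    (hbΩ : ∀ i, bΩ i = KaehlerDifferential.D A B (t i))
    (ω : Module.Basis (Fin n) B L) (ι : KaehlerDifferential A B →ₗ[B] L)
    (hι : ∀ i, ι (KaehlerDifferential.D A B (t i)) = t i • ω i)
    (nabla : E →ₗ[A] E ⊗[B] L)
    (hc : Conn.IsLamConn (ι.compDer (KaehlerDifferential.D A B)) lam nabla) (p : ℕ)
    (x : E ⊗[B] ↥(⋀[B]^p L)) (hx : x ∈ gens nabla ω ι p) : x ∈ layer nabla ω t p := by
  have hr := rule bΩ hbΩ ω ι hι nabla hc
  obtain ⟨I, hI, e, v, hv1, hv2, rfl⟩ := hx
  rw [mem_layer]
  intro K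
  rw [coordE_ιMulti]
  by_cases hIK : I ⊆ (K : Finset (Fin n))
  · obtain ⟨c, hc'⟩ := prod_dvd_det ω t K I v (by
      intro j hj k
      by_cases hk : k.val < I.card
      · rw [hv1 k hk, Module.Basis.coord_apply, Module.Basis.repr_self, Finsupp.single_eq_of_ne]
        · exact dvd_zero _
        · rintro rfl
          exact hj (Finset.orderEmbOfFin_mem _ _ _)
      · obtain ⟨η, hη⟩ := hv2 k (not_lt.1 hk)
        rw [← hη, coord_iota bΩ hbΩ ω ι hι]
        exact dvd_mul_right _ _)
    rw [hc', mul_comm, mul_smul]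
    exact smul_mem hr _ c (gen_mem t hIK e)
  · obtain ⟨i, hi, hiK⟩ := Finset.not_subset.1 hIK
    obtain ⟨k, hk⟩ : ∃ k : Fin I.card, I.orderEmbOfFin rfl k = i := by
      have : i ∈ Set.range (I.orderEmbOfFin rfl) := by
        rw [Finset.range_orderEmbOfFin]
        exact hi
      exact this
    rw [Matrix.det_eq_zero_of_row_eq_zero ⟨k.val, lt_of_lt_of_le k.2 hI⟩, zero_smul]
    · exact Submodule.zero_mem _
    · intro j
      rw [Matrix.of_apply, hv1 _ k.2]
      change ω.coord (en K j) (ω (I.orderEmbOfFin rfl k)) = 0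
      rw [hk, Module.Basis.coord_apply, Module.Basis.repr_self, Finsupp.single_eq_of_ne]
      rintro h
      exact hiK (h ▸ en_mem K j)

theorem span_gens (bΩ : Module.Basis (Fin n) B (KaehlerDifferential A B))
    (hbΩ : ∀ i, bΩ i = KaehlerDifferential.D A B (t i))
    (ω : Module.Basis (Fin n) B L) (ι : KaehlerDifferential A B →ₗ[B] L)
    (hι : ∀ i, ι (KaehlerDifferential.D A B (t i)) = t i • ω i)
    (nabla : E →ₗ[A] E ⊗[B] L)
    (hc : Conn.IsLamConn (ι.compDer (KaehlerDifferential.D A B)) lam nabla) (p : ℕ) :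
    (Submodule.span B (LogConn.gens nabla ω ι p)).restrictScalars A = LogConn.layer nabla ω t p := by
  have hr := rule bΩ hbΩ ω ι hι nabla hc
  apply le_antisymm
  · intro x hx
    replace hx : x ∈ Submodule.span B (LogConn.gens nabla ω ι p) := hx
    induction hx using Submodule.span_induction with
    | mem x hx => exact gens_subset_layer bΩ hbΩ ω ι hι nabla hc p x hx
    | zero => exact Submodule.zero_mem _
    | add x y _ _ h1 h2 => exact Submodule.add_mem _ h1 h2
    | smul b x _ h1 => exact smul_mem_layer hr b h1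
  · apply layer_le
    intro K J hJ e
    obtain ⟨v, ε, h1, h2, h3, h4⟩ := exists_mono ω t K hJ (fun j => ι (KaehlerDifferential.D A B (t j))) hι
    have hg : compProd nabla ω J e ⊗ₜ[B] exteriorPower.ιMulti B p v ∈ LogConn.gens nabla ω ι p := by
      refine ⟨J, h1, e, v, h2, ?_, rfl⟩
      intro k hk
      obtain ⟨j, hj⟩ := h3 k hk
      exact ⟨_, hj.symm⟩
    have h6 := Submodule.subset_span (R := B) hg
    change _ ∈ Submodule.span B (LogConn.gens nabla ω ι p)
    rw [smul_tmul]
    rcases Int.units_eq_one_or ε with h | h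
    · rw [h, one_smul] at h4
      rwa [h4] at h6
    · rw [h, Units.neg_smul, one_smul] at h4
      rw [h4, tmul_neg] at h6
      exact (Submodule.neg_mem_iff _).1 h6

end K892.Gens
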