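import Groth.Prelude.Def_Conn
import Groth.Prelude.Def_W4swconnpcurvhiggsLogLam
import Groth.Agent.Conn.K892.Along
import Mathlib.Data.Finset.Max

/-!
# The pieces `E_I` of a logarithmic λ-connection: recursion, stability, generators
-/

set_option autoImplicit false
universe v u
open TensorProduct LogConn

namespace K892.Piece

/-- The standing data: components of `∇` satisfy a Leibniz rule with the derivations `tᵢ ∂ᵢ`, `∂ᵢ tⱼ = δᵢⱼ`. -/
structure Rule {A : Type v} {B L E : Type u} [CommRing A] [CommRing B] [Algebra A B]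
    [AddCommGroup L] [Module B L] [AddCommGroup E] [Module B E] [Module A E] [IsScalarTower A B E]
    (nabla : E →ₗ[A] E ⊗[B] L) {n : ℕ} (ω : Module.Basis (Fin n) B L) (t : Fin n → B) (lam : B)
    (dd : Fin n → Derivation A B B) : Prop where
  leib : ∀ (i : Fin n) (b : B) (e : E),
    comp nabla ω i (b • e) = b • comp nabla ω i e + (lam * (t i * dd i b)) • e
  diag : ∀ i, dd i (t i) = 1
  off : ∀ i j, i ≠ j → dd i (t j) = 0

variable {A : Type v} {B L E : Type u} [CommRing A] [CommRing B] [Algebra A B]
  [AddCommGroup L] [Module B L]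
  [AddCommGroup E] [Module B E] [Module A E] [IsScalarTower A B E]
  {nabla : E →ₗ[A] E ⊗[B] L} {n : ℕ} {ω : Module.Basis (Fin n) B L} {t : Fin n → B} {lam : B}
  {dd : Fin n → Derivation A B B}

theorem Rule.prod_eq_zero (h : Rule nabla ω t lam dd) (i : Fin n) (S : Finset (Fin n)) (hi : i ∉ S) :
    dd i (∏ j ∈ S, t j) = 0 := by
  classical
  induction S using Finset.induction_on with
  | empty => simp
  | insert a s ha ih =>
    have h1 : i ≠ a := fun h => hi (h ▸ Finset.mem_insert_self _ _)
    have h2 : i ∉ s := fun h => hi (Finset.mem_insert_of_mem h)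
    rw [Finset.prod_insert ha, Derivation.leibniz, ih h2, h.off i a h1, smul_zero, smul_zero, add_zero]

theorem Rule.prod_self (h : Rule nabla ω t lam dd) (i : Fin n) (S : Finset (Fin n)) (hi : i ∈ S) :
    t i * dd i (∏ j ∈ S, t j) = ∏ j ∈ S, t j := by
  classical
  rw [← Finset.mul_prod_erase S t hi, Derivation.leibniz, h.diag,
    h.prod_eq_zero i _ (Finset.notMem_erase i S), smul_zero, zero_add, smul_eq_mul, mul_one]

theorem compProd_empty : compProd nabla ω ∅ = LinearMap.id := by
  simp [compProd]

theorem compProd_insert (i : Fin n) (J : Finset (Fin n)) (hi : ∀ x ∈ J, i < x) :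
    compProd nabla ω (insert i J) = comp nabla ω i ∘ₗ compProd nabla ω J := by
  unfold compProd
  rw [Finset.sort_insert _ (fun b hb => (hi b hb).le) (fun h => lt_irrefl _ (hi i h))]
  rfl

theorem piece_le {t : Fin n → B} {I : Finset (Fin n)} {S : Submodule A E}
    (h : ∀ J ⊆ I, ∀ e : E, (∏ i ∈ I \ J, t i) • compProd nabla ω J e ∈ S) : piece nabla ω t I ≤ S := by
  refine iSup₂_le (fun J hJ => ?_)
  rintro _ ⟨e, rfl⟩
  exact h J (Finset.mem_powerset.1 hJ) e

theorem gen_mem (t : Fin n → B) {I J : Finset (Fin n)} (hJ : J ⊆ I) (e : E) :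
    (∏ i ∈ I \ J, t i) • compProd nabla ω J e ∈ piece nabla ω t I := by
  refine Submodule.mem_iSup_of_mem J (Submodule.mem_iSup_of_mem (Finset.mem_powerset.2 hJ) ?_)
  exact ⟨e, rfl⟩

theorem mem_piece_empty (t : Fin n → B) (e : E) : e ∈ piece nabla ω t ∅ := by
  have h := gen_mem (nabla := nabla) (ω := ω) t (Finset.Subset.refl ∅) e
  rw [compProd_empty] at h
  simpa using h

theorem smul_mem_insert {I : Finset (Fin n)} {i : Fin n} (hi : i ∉ I) {x : E}
    (hx : x ∈ piece nabla ω t I) : t i • x ∈ piece nabla ω t (insert i I) := by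
  have h : piece nabla ω t I ≤ (piece nabla ω t (insert i I)).comap
      ((LinearMap.lsmul B E (t i)).restrictScalars A) := by
    apply piece_le
    intro J hJ e
    change t i • (∏ j ∈ I \ J, t j) • compProd nabla ω J e ∈ piece nabla ω t (insert i I)
    have h1 : insert i I \ J = insert i (I \ J) := Finset.insert_sdiff_of_notMem _ (fun h => hi (hJ h))
    have h2 : i ∉ I \ J := fun h => hi (Finset.mem_sdiff.1 h).1
    rw [smul_smul, ← Finset.prod_insert h2, ← h1]
    exact gen_mem t (hJ.trans (Finset.subset_insert _ _)) e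
  exact h hx

theorem comp_mem_insert (h : Rule nabla ω t lam dd) {I : Finset (Fin n)} {i : Fin n} (hi : ∀ x ∈ I, i < x)
    {x : E} (hx : x ∈ piece nabla ω t I) : comp nabla ω i x ∈ piece nabla ω t (insert i I) := by
  have hi' : i ∉ I := fun h => lt_irrefl _ (hi i h)
  have h : piece nabla ω t I ≤ (piece nabla ω t (insert i I)).comap (comp nabla ω i) := by
    apply piece_le
    intro J hJ e
    change comp nabla ω i ((∏ j ∈ I \ J, t j) • compProd nabla ω J e) ∈ piece nabla ω t (insert i I)
    have h2 : i ∉ I \ J := fun h => hi' (Finset.mem_sdiff.1 h).1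
    rw [h.leib, h.prod_eq_zero i _ h2, mul_zero, mul_zero, zero_smul, add_zero]
    have h3 : insert i I \ insert i J = I \ J := by
      rw [Finset.insert_sdiff_insert, Finset.sdiff_insert_of_notMem hi']
    rw [← h3, ← LinearMap.comp_apply, ← compProd_insert i J (fun x hx => hi x (hJ hx))]
    exact gen_mem t (Finset.insert_subset_insert _ hJ) e
  exact h hx

/-- The recursion `E_{i ∪ I} = ∇ᵢ E_I + tᵢ E_I` for `i < min I` (the inclusion `≤`). -/
theorem piece_insert_le {I : Finset (Fin n)} {i : Fin n} (hi : ∀ x ∈ I, i < x) {S : Submodule A E}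
    (h1 : ∀ x ∈ piece nabla ω t I, t i • x ∈ S)
    (h2 : ∀ J ⊆ I, ∀ e : E, (∏ j ∈ I \ J, t j) • comp nabla ω i (compProd nabla ω J e) ∈ S) :
    piece nabla ω t (insert i I) ≤ S := by
  have hi' : i ∉ I := fun h => lt_irrefl _ (hi i h)
  apply piece_le
  intro J hJ e
  by_cases hiJ : i ∈ J
  · have e1 : J = insert i (J.erase i) := (Finset.insert_erase hiJ).symm
    have e2 : J.erase i ⊆ I := by
      intro x hx
      rcases Finset.mem_insert.1 (hJ (Finset.mem_of_mem_erase hx)) with h | h
      · exact absurd h (Finset.ne_of_mem_erase hx)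
      · exact h
    have e3 : insert i I \ J = I \ J.erase i := by
      conv_lhs => rw [e1]
      rw [Finset.insert_sdiff_insert, Finset.sdiff_insert_of_notMem hi']
    rw [e3]
    conv in compProd nabla ω J => rw [e1]
    rw [compProd_insert i _ (fun x hx => hi x (e2 hx))]
    exact h2 _ e2 e
  · have e2 : J ⊆ I := by
      intro x hx
      rcases Finset.mem_insert.1 (hJ hx) with h | h
      · exact absurd (h ▸ hx) hiJ
      · exact h
    have e3 : insert i I \ J = insert i (I \ J) := Finset.insert_sdiff_of_notMem _ hiJ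
    rw [e3, Finset.prod_insert (fun h => hi' (Finset.mem_sdiff.1 h).1), mul_smul]
    exact h1 _ (gen_mem t e2 e)

/-- The pieces are stable under `B`. -/
theorem smul_mem (h : Rule nabla ω t lam dd) (I : Finset (Fin n)) (b : B) {x : E}
    (hx : x ∈ piece nabla ω t I) : b • x ∈ piece nabla ω t I := by
  classical
  induction I using Finset.induction_on_min generalizing b x with
  | empty => exact mem_piece_empty t _
  | insert i I hi ih =>
    have hi' : i ∉ I := fun h => lt_irrefl _ (hi i h)
    have hle : piece nabla ω t (insert i I) ≤ (piece nabla ω t (insert i I)).comap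
        ((LinearMap.lsmul B E b).restrictScalars A) := by
      apply piece_insert_le hi
      · intro y hy
        change b • t i • y ∈ piece nabla ω t (insert i I)
        rw [smul_comm]
        exact smul_mem_insert hi' (ih b hy)
      · intro J hJ e
        change b • (∏ j ∈ I \ J, t j) • comp nabla ω i (compProd nabla ω J e) ∈ piece nabla ω t (insert i I)
        have h2 : i ∉ I \ J := fun h => hi' (Finset.mem_sdiff.1 h).1
        -- `b • ∇ᵢ y = ∇ᵢ (b • y) - λ tᵢ ∂ᵢ b • y` with `y = t_{I∖J} ∇_J e`
        have e1 : (∏ j ∈ I \ J, t j) • comp nabla ω i (compProd nabla ω J e) =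
            comp nabla ω i ((∏ j ∈ I \ J, t j) • compProd nabla ω J e) := by
          rw [h.leib, h.prod_eq_zero i _ h2, mul_zero, mul_zero, zero_smul, add_zero]
        have hy := gen_mem (nabla := nabla) (ω := ω) t hJ e
        rw [e1]
        generalize (∏ j ∈ I \ J, t j) • compProd nabla ω J e = y at hy
        have e2 : b • comp nabla ω i y = comp nabla ω i (b • y) - t i • (lam * dd i b) • y := by
          rw [h.leib, smul_smul, eq_sub_iff_add_eq]
          congr 2
          ring
        rw [e2]
        exact Submodule.sub_mem _ (comp_mem_insert h hi (ih b hy)) (smul_mem_insert hi' (ih _ hy))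
    exact hle hx

end K892.Piece
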