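import Groth.Agent.LogConn.K892.Piece
import Mathlib.RingTheory.Kaehler.Basic

/-!
# The Leibniz rule of the components of a logarithmic λ-connection; generators of the pieces
-/

set_option autoImplicit false
universe v u
open TensorProduct LogConn

namespace K892.Setup

open K892.Piece

variable {A : Type v} {B L E : Type u} [CommRing A] [CommRing B]
    [Algebra A B] [AddCommGroup L] [Module B L] [Module A L] [IsScalarTower A B L]
    [AddCommGroup E] [Module B E] [Module A E] [IsScalarTower A B E]
    {lam : B} {n : ℕ} {t : Fin n → B}

/-- The partial derivatives with respect to the coordinates `t`. -/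
noncomputable def pd (bΩ : Module.Basis (Fin n) B (KaehlerDifferential A B)) (i : Fin n) : Derivation A B B :=
  (bΩ.coord i).compDer (KaehlerDifferential.D A B)

theorem pd_apply (bΩ : Module.Basis (Fin n) B (KaehlerDifferential A B)) (i : Fin n) (b : B) :
    pd bΩ i b = bΩ.coord i (KaehlerDifferential.D A B b) := rfl

omit [Module A L] [IsScalarTower A B L] in
theorem coord_iota (bΩ : Module.Basis (Fin n) B (KaehlerDifferential A B))
    (hbΩ : ∀ i, bΩ i = KaehlerDifferential.D A B (t i))
    (ω : Module.Basis (Fin n) B L) (ι : KaehlerDifferential A B →ₗ[B] L)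
    (hι : ∀ i, ι (KaehlerDifferential.D A B (t i)) = t i • ω i) (i : Fin n) (w : KaehlerDifferential A B) :
    ω.coord i (ι w) = t i * bΩ.coord i w := by
  have h : ω.coord i ∘ₗ ι = t i • bΩ.coord i := by
    apply bΩ.ext
    intro j
    rw [LinearMap.comp_apply, hbΩ j, hι j, ← hbΩ j, LinearMap.smul_apply, map_smul, Module.Basis.coord_apply,
      Module.Basis.coord_apply, Module.Basis.repr_self, Module.Basis.repr_self, Finsupp.single_apply]
    split_ifs with h
    · rw [h]
    · simp
  exact LinearMap.congr_fun h w

theorem rule (bΩ : Module.Basis (Fin n) B (KaehlerDifferential A B))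
    (hbΩ : ∀ i, bΩ i = KaehlerDifferential.D A B (t i))
    (ω : Module.Basis (Fin n) B L) (ι : KaehlerDifferential A B →ₗ[B] L)
    (hι : ∀ i, ι (KaehlerDifferential.D A B (t i)) = t i • ω i)
    (nabla : E →ₗ[A] E ⊗[B] L)
    (hc : Conn.IsLamConn (ι.compDer (KaehlerDifferential.D A B)) lam nabla) :
    Rule nabla ω t lam (pd bΩ) where
  leib i b e := by
    have h := K892.Along.along_lam_smul (ι.compDer (KaehlerDifferential.D A B)) hc (ω.coord i) b e
    have h2 : ω.coord i ((ι.compDer (KaehlerDifferential.D A B)) b) = t i * pd bΩ i b :=
      coord_iota bΩ hbΩ ω ι hι i _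
    rw [h2] at h
    exact h
  diag i := by
    rw [pd_apply, ← hbΩ, Module.Basis.coord_apply, Module.Basis.repr_self, Finsupp.single_eq_same]
  off i j hij := by
    rw [pd_apply, ← hbΩ, Module.Basis.coord_apply, Module.Basis.repr_self,
      Finsupp.single_eq_of_ne hij]

end K892.Setup

namespace K892.Piece

variable {A : Type v} {B L E : Type u} [CommRing A] [CommRing B] [Algebra A B]
  [AddCommGroup L] [Module B L]
  [AddCommGroup E] [Module B E] [Module A E] [IsScalarTower A B E]
  {nabla : E →ₗ[A] E ⊗[B] L} {n : ℕ} {ω : Module.Basis (Fin n) B L} {t : Fin n → B} {lam : B}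
  {dd : Fin n → Derivation A B B}

/-- The proposed generators of a piece, from generators `e_k` of `E`. -/
def genSet (nabla : E →ₗ[A] E ⊗[B] L) (ω : Module.Basis (Fin n) B L) (t : Fin n → B) {m : ℕ} (e : Fin m → E)
    (I : Finset (Fin n)) : Set E :=
  ⋃ J ∈ I.powerset, Set.range (fun k : Fin m => (∏ i ∈ I \ J, t i) • LogConn.compProd nabla ω J (e k))

theorem mem_genSet {m : ℕ} (e : Fin m → E) {I J : Finset (Fin n)} (hJ : J ⊆ I) (k : Fin m) :
    (∏ i ∈ I \ J, t i) • LogConn.compProd nabla ω J (e k) ∈ genSet nabla ω t e I :=
  Set.mem_biUnion (x := J) (Finset.mem_coe.2 (Finset.mem_powerset.2 hJ)) ⟨k, rfl⟩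

theorem span_genSet_eq (h : Rule nabla ω t lam dd) {m : ℕ} (e : Fin m → E)
    (he : Submodule.span B (Set.range e) = ⊤) (I : Finset (Fin n)) :
    (Submodule.span B (genSet nabla ω t e I)).restrictScalars A = piece nabla ω t I := by
  classical
  apply le_antisymm
  · intro x hx
    replace hx : x ∈ Submodule.span B (genSet nabla ω t e I) := hx
    induction hx using Submodule.span_induction with
    | mem x hx =>
      obtain ⟨J, hJ, k, rfl⟩ := Set.mem_iUnion₂.1 hx
      exact gen_mem t (Finset.mem_powerset.1 (Finset.mem_coe.1 hJ)) (e k)
    | zero => exact Submodule.zero_mem _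
    | add x y hx hy h1 h2 => exact Submodule.add_mem _ h1 h2
    | smul b x hx h1 => exact smul_mem h I b h1
  · induction I using Finset.induction_on_min with
    | empty =>
      intro x _
      change x ∈ Submodule.span B (genSet nabla ω t e ∅)
      have h1 : Set.range e ⊆ genSet nabla ω t e ∅ := by
        rintro _ ⟨k, rfl⟩
        have := mem_genSet (nabla := nabla) (ω := ω) (t := t) e (Finset.Subset.refl ∅) k
        rw [compProd_empty] at this
        simpa using this
      apply Submodule.span_mono h1
      rw [he]
      trivial
    | insert i I hi ih =>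
      have hi' : i ∉ I := fun h => lt_irrefl _ (hi i h)
      -- `tᵢ • S_I ⊆ S_{i ∪ I}`
      have hsm : ∀ y ∈ Submodule.span B (genSet nabla ω t e I),
          t i • y ∈ Submodule.span B (genSet nabla ω t e (insert i I)) := by
        intro y hy
        induction hy using Submodule.span_induction with
        | mem y hy =>
          obtain ⟨J, hJ, k, rfl⟩ := Set.mem_iUnion₂.1 hy
          have hJ' := Finset.mem_powerset.1 (Finset.mem_coe.1 hJ)
          apply Submodule.subset_span
          have e1 : insert i I \ J = insert i (I \ J) :=
            Finset.insert_sdiff_of_notMem _ (fun h => hi' (hJ' h))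
          have := mem_genSet (nabla := nabla) (ω := ω) (t := t) e (hJ'.trans (Finset.subset_insert i I)) k
          rw [e1, Finset.prod_insert (fun h => hi' (Finset.mem_sdiff.1 h).1), mul_smul] at this
          exact this
        | zero => rw [smul_zero]; exact Submodule.zero_mem _
        | add x y _ _ h1 h2 => rw [smul_add]; exact Submodule.add_mem _ h1 h2
        | smul b x _ h1 => rw [smul_comm]; exact Submodule.smul_mem _ b h1
      -- `∇ᵢ S_I ⊆ S_{i ∪ I}`
      have hcm : ∀ y ∈ Submodule.span B (genSet nabla ω t e I),
          comp nabla ω i y ∈ Submodule.span B (genSet nabla ω t e (insert i I)) := by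
        intro y hy
        induction hy using Submodule.span_induction with
        | mem y hy =>
          obtain ⟨J, hJ, k, rfl⟩ := Set.mem_iUnion₂.1 hy
          have hJ' := Finset.mem_powerset.1 (Finset.mem_coe.1 hJ)
          apply Submodule.subset_span
          have e3 : insert i I \ insert i J = I \ J := by
            rw [Finset.insert_sdiff_insert, Finset.sdiff_insert_of_notMem hi']
          have := mem_genSet (nabla := nabla) (ω := ω) (t := t) e (Finset.insert_subset_insert i hJ') k
          rw [e3, compProd_insert i J (fun x hx => hi x (hJ' hx)), LinearMap.comp_apply] at this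
          change comp nabla ω i ((∏ j ∈ I \ J, t j) • compProd nabla ω J (e k)) ∈ _
          rw [h.leib, h.prod_eq_zero i _ (fun h => hi' (Finset.mem_sdiff.1 h).1), mul_zero, mul_zero,
            zero_smul, add_zero]
          exact this
        | zero => rw [map_zero]; exact Submodule.zero_mem _
        | add x y _ _ h1 h2 => rw [map_add]; exact Submodule.add_mem _ h1 h2
        | smul b x hx h1 =>
          rw [h.leib]
          refine Submodule.add_mem _ (Submodule.smul_mem _ b h1) ?_
          have e4 : (lam * (t i * dd i b)) • x = (lam * dd i b) • t i • x := by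
            rw [smul_smul]
            congr 1
            ring
          rw [e4]
          exact Submodule.smul_mem _ _ (hsm x hx)
      apply piece_insert_le hi
      · intro x hx
        exact hsm x (ih hx)
      · intro J hJ x
        have e1 : (∏ j ∈ I \ J, t j) • comp nabla ω i (compProd nabla ω J x) =
            comp nabla ω i ((∏ j ∈ I \ J, t j) • compProd nabla ω J x) := by
          rw [h.leib, h.prod_eq_zero i _ (fun h => hi' (Finset.mem_sdiff.1 h).1), mul_zero, mul_zero,
            zero_smul, add_zero]
        rw [e1]
        exact hcm _ (ih (gen_mem t hJ x))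

end K892.Piece
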